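import Groth.Agent.Lib.RefineDesc12.Cover
import Groth.Agent.Lib.HTop25.Basic
import Groth.Agent.Lib.CurveNF.SigmaProper
import Groth.Agent.S14770
import Groth.Agent.S14792

/-!
# Refining universally S-subtrusive morphisms by open covers followed by proper surjections
-/

set_option autoImplicit false
set_option linter.style.haveILetI false
set_option backward.isDefEq.respectTransparency false

universe u

open IsLocalRing CategoryTheory CategoryTheory.Limits AlgebraicGeometry

namespace Groth.Agent.RefineDesc12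

/-- `p` is an open immersion near every point of the source. -/
def IsLocIso {X' Y' : Scheme.{u}} (p : X' ⟶ Y') : Prop :=
  ∀ x : X', ∃ U : X'.Opens, x ∈ U ∧ IsOpenImmersion (U.ι ≫ p)

theorem prop_of_isLocIso (P : MorphismProperty Scheme.{u}) [IsZariskiLocalAtSource P]
    (hP : ∀ {A B : Scheme.{u}} (g : A ⟶ B) [IsOpenImmersion g], P g)
    {X' Y' : Scheme.{u}} (p : X' ⟶ Y') (hp : IsLocIso p) : P p := by
  choose U hxU hU using hp
  refine IsZariskiLocalAtSource.of_openCover
    (X'.openCoverOfIsOpenCover (fun x => U x) ?_) fun x => ?_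
  · rw [TopologicalSpace.IsOpenCover, eq_top_iff]
    exact fun x _ => TopologicalSpace.Opens.mem_iSup.2 ⟨x, hxU x⟩
  · haveI := hU x
    exact hP ((U x).ι ≫ p)

theorem isProper_sigmaDesc {σ : Type u} [Finite σ] {Y : Scheme.{u}} {X : σ → Scheme.{u}}
    (q : ∀ i, X i ⟶ Y) [∀ i, IsProper (q i)] : IsProper (Sigma.desc q) := by
  have h1 : IsProper (Limits.Sigma.map q) := by
    refine IsZariskiLocalAtTarget.of_openCover (P := @IsProper) (sigmaOpenCover fun _ : σ => Y) fun i => ?_
    show IsProper (pullback.snd (Limits.Sigma.map q) (Sigma.ι (fun _ : σ => Y) i))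
    rw [← IsPullback.isoPullback_inv_snd (CurveNF.isPullback_sigmaMap q i).flip]
    infer_instance
  haveI : IsFinite (Sigma.desc fun _ : σ => 𝟙 Y) := HTop25.isFinite_sigmaDesc _
  have h : Sigma.desc q = Limits.Sigma.map q ≫ Sigma.desc fun _ : σ => 𝟙 Y :=
    Sigma.hom_ext _ _ fun i => by simp [Limits.Sigma.map]
  rw [h]
  infer_instance

/-- The refinement over a Noetherian base. -/
theorem exists_refinement_noetherian {X Y : Scheme.{u}} (f : X ⟶ Y) [IsNoetherian Y]
    [LocallyOfFinitePresentation f] (hf : Subtr.UnivSSubtrusive f) :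
    ∃ (X' Y' : Scheme.{u}) (h : X' ⟶ X) (p : X' ⟶ Y') (q : Y' ⟶ Y), h ≫ f = p ≫ q ∧
      Surjective p ∧ QuasiCompact p ∧ QuasiSeparated p ∧ IsLocIso p ∧
      IsProper q ∧ Surjective q ∧ LocallyOfFinitePresentation q := by
  classical
  let σ : Type u := irreducibleComponents Y
  haveI : Finite σ := (TopologicalSpace.NoetherianSpace.finite_irreducibleComponents (α := Y)).to_subtype
  let η : σ → Y := fun Z => Z.2.1.genericPoint
  let K : σ → Type u := fun Z => AlgebraicClosure (Y.residueField (η Z))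
  let γ : ∀ Z, Spec (CommRingCat.of (K Z)) ⟶ Y := fun Z =>
    Spec.map (CommRingCat.ofHom (algebraMap (Y.residueField (η Z)) (K Z))) ≫
      Y.fromSpecResidueField (η Z)
  choose M hM using fun Z => exists_model_good (f := f) (γ := γ Z) hf
  haveI : ∀ Z, IsProper (M Z).q := fun Z => (M Z).isProper
  let q := Sigma.desc fun Z => (M Z).q
  haveI : IsProper q := isProper_sigmaDesc _
  haveI : IsLocallyNoetherian (∐ fun Z => (M Z).P) := LocallyOfFiniteType.isLocallyNoetherian q
  haveI : CompactSpace ↥(∐ fun Z => (M Z).P) := QuasiCompact.compactSpace_of_compactSpace q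
  haveI : IsNoetherian (∐ fun Z => (M Z).P) := {}
  have hq : Surjective q := ⟨fun y => by
    obtain ⟨Z, hyZ⟩ : ∃ Z : σ, y ∈ (Z : Set Y) :=
      ⟨⟨_, irreducibleComponent_mem_irreducibleComponents y⟩, mem_irreducibleComponent⟩
    have hη : η Z ∈ Set.range (M Z).q := by
      refine ⟨(M Z).pt (closedPoint (K Z)), ?_⟩
      rw [← Scheme.Hom.comp_apply, (M Z).fac, Scheme.Hom.comp_apply]
      exact Scheme.fromSpecResidueField_apply _ _
    have hsp : η Z ⤳ y := by
      refine IsGenericPoint.specializes ?_ hyZ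
      have := Z.2.1.isGenericPoint_genericPoint_closure
      rwa [(isClosed_of_mem_irreducibleComponents _ Z.2).closure_eq] at this
    have hy : y ∈ Set.range (M Z).q :=
      hsp.mem_closed (M Z).q.isClosedMap.isClosed_range hη
    obtain ⟨x, hx⟩ := hy
    exact ⟨Sigma.ι (fun Z => (M Z).P) Z x, by rw [← Scheme.Hom.comp_apply, Sigma.ι_desc, hx]⟩⟩
  choose U hyU s hs using hM
  haveI : ∀ Z, CompactSpace (M Z).P := fun Z => QuasiCompact.compactSpace_of_compactSpace (M Z).q
  choose t ht using fun Z => isCompact_univ.elim_finite_subcover (fun y => (U Z y : Set (M Z).P))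
    (fun y => (U Z y).isOpen) (fun y _ => Set.mem_iUnion.2 ⟨y, hyU Z y⟩)
  let τ : Type u := Σ Z : σ, (t Z)
  let O : τ → Scheme.{u} := fun k => (U k.1 k.2.1 : Scheme.{u})
  let j : ∀ k : τ, O k ⟶ ∐ fun Z => (M Z).P := fun k =>
    (U k.1 k.2.1).ι ≫ Sigma.ι (fun Z => (M Z).P) k.1
  haveI : ∀ k, IsOpenImmersion (j k) := fun k => inferInstanceAs (IsOpenImmersion (_ ≫ _))
  haveI : Finite τ := inferInstance
  haveI : ∀ k, CompactSpace (O k) := fun k =>
    haveI : IsLocallyNoetherian (M k.1).P := LocallyOfFiniteType.isLocallyNoetherian (M k.1).q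
    haveI : IsNoetherian (M k.1).P := {}
    isCompact_iff_compactSpace.mp (TopologicalSpace.NoetherianSpace.isCompact _)
  let p : ∐ O ⟶ ∐ fun Z => (M Z).P := Sigma.desc j
  have hloc : IsLocIso p := fun x => by
    obtain ⟨k, y, rfl⟩ := CurveNF.exists_sigma_eq (X := O) x
    refine ⟨(Sigma.ι O k).opensRange, ⟨y, rfl⟩, ?_⟩
    rw [show (Sigma.ι O k).opensRange.ι ≫ p = (Sigma.ι O k).isoOpensRange.inv ≫ j k by
      rw [← Scheme.Hom.isoOpensRange_inv_comp (Sigma.ι O k), Category.assoc, Sigma.ι_desc]]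
    infer_instance
  haveI : CompactSpace ↥(∐ O) := by
    refine ⟨?_⟩
    have hu : (Set.univ : Set ↥(∐ O)) = ⋃ k, Set.range (Sigma.ι O k) := by
      refine (Set.eq_univ_of_forall fun x => ?_).symm
      obtain ⟨k, y, hy⟩ := CurveNF.exists_sigma_eq (X := O) x
      exact Set.mem_iUnion.2 ⟨k, y, hy⟩
    rw [hu]
    exact isCompact_iUnion fun k => isCompact_range (Sigma.ι O k).continuous
  haveI : QuasiCompact (p ≫ terminal.from _) := (quasiCompact_iff_compactSpace _).2 inferInstance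
  haveI : QuasiCompact p := QuasiCompact.of_comp p (terminal.from _)
  haveI : LocallyOfFiniteType p :=
    prop_of_isLocIso @LocallyOfFiniteType (fun g _ => inferInstance) p hloc
  haveI : IsLocallyNoetherian (∐ O) := LocallyOfFiniteType.isLocallyNoetherian p
  refine ⟨∐ O, _, Sigma.desc (fun k : τ => s k.1 k.2.1), p, q, ?_, ⟨fun z => ?_⟩, inferInstance,
    inferInstance, hloc, inferInstance, hq,
    inferInstance⟩
  · refine Sigma.hom_ext _ _ fun k => ?_
    rw [Sigma.ι_desc_assoc, hs, Sigma.ι_desc_assoc]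
    simp only [j, q, Category.assoc, Sigma.ι_desc]
  · obtain ⟨Z, y, rfl⟩ := CurveNF.exists_sigma_eq (X := fun Z => (M Z).P) z
    obtain ⟨y', hy', hmem⟩ := Set.mem_iUnion₂.1 (ht Z (Set.mem_univ y))
    refine ⟨Sigma.ι O ⟨Z, ⟨y', hy'⟩⟩ ⟨y, hmem⟩, ?_⟩
    rw [← Scheme.Hom.comp_apply, Sigma.ι_desc]
    rfl

theorem isLocIso_pullback_fst {X₀ Y₀ X' Y' : Scheme.{u}} {p₀ : X₀ ⟶ Y₀} {m : Y' ⟶ Y₀}
    {a : X' ⟶ X₀} {p : X' ⟶ Y'} (h : IsPullback a p p₀ m) (hp : IsLocIso p₀) : IsLocIso p := by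
  intro x
  obtain ⟨U, hU, hUi⟩ := hp (a x)
  refine ⟨a ⁻¹ᵁ U, hU, ?_⟩
  exact MorphismProperty.of_isPullback (P := @IsOpenImmersion)
    (((isPullback_morphismRestrict a U).paste_vert h.flip.flip) ) hUi

/-- The refinement over an affine or Noetherian base. -/
theorem exists_refinement {X Y : Scheme.{u}} (f : X ⟶ Y) (hY : IsAffine Y ∨ IsNoetherian Y)
    [LocallyOfFinitePresentation f] [QuasiCompact f] [QuasiSeparated f]
    (hf : Subtr.UnivSSubtrusive f) :
    ∃ (X' Y' : Scheme.{u}) (h : X' ⟶ X) (p : X' ⟶ Y') (q : Y' ⟶ Y), h ≫ f = p ≫ q ∧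
      Surjective p ∧ QuasiCompact p ∧ QuasiSeparated p ∧ IsLocIso p ∧
      IsProper q ∧ Surjective q ∧ LocallyOfFinitePresentation q := by
  rcases hY with hY | hY
  swap
  · exact exists_refinement_noetherian f hf
  let f' : X ⟶ Spec (CommRingCat.of Γ(Y, ⊤)) := f ≫ Y.isoSpec.hom
  have hf' : Subtr.UnivSSubtrusive f' :=
    MorphismProperty.IsStableUnderBaseChange.of_isPullback
      (self := by unfold Subtr.UnivSSubtrusive; infer_instance)
      (f := Y.isoSpec.inv) (f' := 𝟙 X) (IsPullback.of_horiz_isIso ⟨by simp [f']⟩) hf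
  obtain ⟨A₀, hA₀, X₀, f₀, qX, hpb, hfp, hqc, hqs, hsub⟩ :=
    (Groth.Agent.S14792.result Γ(Y, ⊤) f').1 hf'
  haveI : Algebra.FiniteType ℤ A₀ := (Subalgebra.fg_iff_finiteType A₀).1 hA₀
  haveI : IsNoetherianRing A₀ := Algebra.FiniteType.isNoetherianRing ℤ A₀
  obtain ⟨X₁, Y₁, h₁, p₁, q₁, hcomm, hp₁, hp₁qc, hp₁qs, hloc, hq₁, hq₁s, hq₁fp⟩ :=
    exists_refinement_noetherian f₀ ((Groth.Agent.S14770.result f₀).1 hsub)
  let m : Y ⟶ Spec (CommRingCat.of A₀) :=
    Y.isoSpec.hom ≫ Spec.map (CommRingCat.ofHom A₀.val.toRingHom)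
  have hpb' : IsPullback qX f f₀ m := by
    have h1 : IsPullback (𝟙 X) f f' Y.isoSpec.hom := IsPullback.of_horiz_isIso ⟨by simp [f']⟩
    have h2 := h1.paste_horiz hpb
    rwa [Category.id_comp] at h2
  let q := pullback.snd q₁ m
  let p := pullback.snd p₁ (pullback.fst q₁ m)
  refine ⟨_, _, hpb'.lift (pullback.fst p₁ (pullback.fst q₁ m) ≫ h₁) (p ≫ q) ?_, p, q,
    hpb'.lift_snd _ _ _, inferInstance, inferInstance, inferInstance,
    isLocIso_pullback_fst (IsPullback.of_hasPullback _ _) hloc, inferInstance, inferInstance,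
    inferInstance⟩
  rw [Category.assoc, hcomm, pullback.condition_assoc, Category.assoc, pullback.condition]

end Groth.Agent.RefineDesc12
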