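import Groth.Agent.Lib.RefineDesc12.Model
import Mathlib.Order.Filter.Ultrafilter.Basic

/-!
# A model on which a universally S-subtrusive morphism has local sections
-/

set_option autoImplicit false
set_option linter.style.haveILetI false
set_option backward.isDefEq.respectTransparency false

universe u

open Filter IsLocalRing CategoryTheory CategoryTheory.Limits AlgebraicGeometry

namespace Groth.Agent.RefineDesc12

/-- The space of valuation rings of a field containing given elements is quasi-compact. -/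
theorem exists_finset_valuation {K : Type u} [Field K] (S : Set K) {C : Type u} (F : C → Set K)
    (hF : ∀ c, (F c).Finite)
    (h : ∀ V : ValuationSubring K, S ⊆ V → ∃ c, F c ⊆ V) :
    ∃ L : Finset C, ∀ V : ValuationSubring K, S ⊆ V → ∃ c ∈ L, F c ⊆ V := by
  classical
  by_contra hcon
  push Not at hcon
  choose V hSV hV using hcon
  let U : Ultrafilter (Finset C) := Ultrafilter.of atTop
  let R : Subring K :=
    { carrier := {x | ∀ᶠ L in (U : Filter (Finset C)), x ∈ V L}
      zero_mem' := Eventually.of_forall fun L => zero_mem _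
      one_mem' := Eventually.of_forall fun L => one_mem _
      add_mem' := fun ha hb => (ha.and hb).mono fun L hL => add_mem hL.1 hL.2
      mul_mem' := fun ha hb => (ha.and hb).mono fun L hL => mul_mem hL.1 hL.2
      neg_mem' := fun ha => Eventually.mono ha fun L hL => neg_mem hL }
  let W : ValuationSubring K := ValuationSubring.ofSubring R fun x =>
    Ultrafilter.eventually_or.1 (Eventually.of_forall fun L => (V L).mem_or_inv_mem x)
  obtain ⟨c, hc⟩ := h W fun x hx => Eventually.of_forall fun L => hSV L hx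
  have h1 : ∀ᶠ L in (U : Filter (Finset C)), F c ⊆ V L :=
    ((hF c).eventually_all).2 fun x hx => hc hx
  have h2 : ∀ᶠ L in (U : Filter (Finset C)), c ∈ L :=
    Ultrafilter.of_le _ ((eventually_ge_atTop {c}).mono fun L hL => hL (Finset.mem_singleton_self c))
  obtain ⟨L, hL1, hL2⟩ := (h1.and h2).exists
  exact hV L c hL2 hL1

variable {X Y : Scheme.{u}} (f : X ⟶ Y) {K : Type u} [Field K] (γ : Spec (CommRingCat.of K) ⟶ Y)

/-- Elements whose regularity gives local sections over an open of the base, after refinement. -/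
def Usable (Yj : Y.Opens) {n : ℕ} (a : {j : Fin (n + 1) // j ≠ 0} → K) : Prop :=
  ∀ M : Model γ, ∃ (M' : Model γ) (_ : M'.Dom M), ∀ (y : M'.P) (V : ValuationSubring K),
    Centred M' V y → M'.q y ∈ Yj → (∀ k, a k ∈ V) → Good f M' y

variable {f γ}

theorem pt_mem_of_nonempty (M : Model γ) {O : M.P.Opens} {y : M.P} (hy : y ∈ O) :
    M.pt (closedPoint K) ∈ O := by
  obtain ⟨p, hp⟩ := M.pt.denseRange.exists_mem_open O.isOpen ⟨y, hy⟩
  rwa [Subsingleton.elim p (closedPoint K)] at hp

theorem range_subset_of_closedPoint_mem {R : Type u} [CommRing R] [IsLocalRing R] {Z : Scheme.{u}}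
    (g : Spec (CommRingCat.of R) ⟶ Z) {O : Z.Opens} (h : g (closedPoint R) ∈ O) :
    Set.range g ⊆ (O : Set Z) := by
  rintro _ ⟨p, rfl⟩
  exact ((IsLocalRing.specializes_closedPoint p).map g.continuous).mem_open O.isOpen h

variable [QuasiSeparatedSpace Y]

theorem usable_of_point [LocallyOfFiniteType f] {Yj : Y.Opens} (hYj : IsAffineOpen Yj)
    (V : ValuationSubring K) (x : Spec (CommRingCat.of V) ⟶ X) (hxj : f (x (closedPoint V)) ∈ Yj)
    (hx : Spec.map (CommRingCat.ofHom (algebraMap V K)) ≫ x ≫ f = γ) :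
    ∃ (n : ℕ) (a : {j : Fin (n + 1) // j ≠ 0} → K), Usable f γ Yj a ∧ ∀ k, a k ∈ V := by
  classical
  obtain ⟨W, hW, hxW, hWj⟩ := exists_isAffineOpen_mem_and_subset (X := X) (x := x (closedPoint V))
    (U := f ⁻¹ᵁ Yj) hxj
  haveI : IsAffine (W : Scheme.{u}) := hW
  haveI : IsAffine (Yj : Scheme.{u}) := hYj
  let φ : (W : Scheme.{u}) ⟶ (Yj : Scheme.{u}) := f.resLE Yj W hWj
  haveI : LocallyOfFiniteType φ := by
    haveI : LocallyOfFiniteType (φ ≫ Yj.ι) := by
      rw [Scheme.Hom.resLE_comp_ι]; infer_instance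
    exact locallyOfFiniteType_of_comp φ Yj.ι
  have hft : φ.appTop.hom.FiniteType :=
    (HasRingHomProperty.iff_of_isAffine (P := @LocallyOfFiniteType)).1 inferInstance
  letI := φ.appTop.hom.toAlgebra
  obtain ⟨s, hs⟩ := (hft : Algebra.FiniteType Γ(Yj, ⊤) Γ(W, ⊤)).out
  let n := s.card
  let xW : Spec (CommRingCat.of V) ⟶ (W : Scheme.{u}) := IsOpenImmersion.lift W.ι x (by
    rw [Scheme.Opens.range_ι]; exact range_subset_of_closedPoint_mem x hxW)
  let e : {j : Fin (n + 1) // j ≠ 0} ≃ s :=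
    (finSuccAboveEquiv (0 : Fin (n + 1))).symm.trans s.equivFin.symm
  let v : {j : Fin (n + 1) // j ≠ 0} → V := fun k =>
    (Scheme.ΓSpecIso (CommRingCat.of V)).hom.hom (xW.appTop (e k).1)
  refine ⟨n, fun k => algebraMap V K (v k), ?_, fun k => (v k).2⟩
  intro M
  obtain ⟨M', d, O, hO, hgen⟩ := exists_step (fun k => algebraMap V K (v k)) M
  refine ⟨M', d, fun y V' hy hyj ha => ?_⟩
  let U : M'.P.Opens := O ⊓ M'.q ⁻¹ᵁ Yj
  have hyU : y ∈ U := ⟨hO V' y hy ha, hyj⟩
  haveI : Nonempty U := ⟨⟨y, hyU⟩⟩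
  let w : Spec (CommRingCat.of K) ⟶ (U : Scheme.{u}) := IsOpenImmersion.lift U.ι M'.pt (by
    rw [Scheme.Opens.range_ι]
    exact range_subset_of_closedPoint_mem M'.pt (pt_mem_of_nonempty M' hyU))
  have hw : w ≫ U.ι = M'.pt := IsOpenImmersion.lift_fac _ _ _
  haveI : IsDominant w := by
    refine ⟨?_⟩
    rw [DenseRange, dense_iff_inter_open]
    rintro A hA ⟨z, hz⟩
    obtain ⟨p, hp⟩ := M'.pt.denseRange.exists_mem_open (U.ι.isOpenEmbedding.isOpenMap A hA)
      ⟨U.ι z, z, hz, rfl⟩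
    obtain ⟨z', hz', he⟩ := hp
    refine ⟨z', hz', p, U.ι.isOpenEmbedding.injective ?_⟩
    rw [← Scheme.Hom.comp_apply, hw]
    exact he.symm
  let xK : Spec (CommRingCat.of K) ⟶ (W : Scheme.{u}) :=
    Spec.map (CommRingCat.ofHom (algebraMap V K)) ≫ xW
  obtain ⟨r, hr, -⟩ := exists_lift_of_generators w φ (M'.q.resLE Yj U inf_le_right) xK
    (by
      rw [← cancel_mono Yj.ι]
      simp only [xK, xW, φ, Category.assoc, Scheme.Hom.resLE_comp_ι, Scheme.Hom.resLE_comp_ι_assoc,
        IsOpenImmersion.lift_fac_assoc]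
      rw [hx, reassoc_of% hw, M'.fac])
    (s : Set Γ(W, ⊤))
    (by
      have := congrArg Subalgebra.toSubring hs
      rw [Algebra.adjoin_eq_ring_closure] at this
      simpa using! this)
    (fun g hg => by
      obtain ⟨b, hb⟩ := hgen U w inf_le_left hw (e.symm ⟨g, hg⟩)
      refine ⟨b, hb.trans ?_⟩
      show (Scheme.ΓSpecIso (CommRingCat.of K)).inv.hom
        ((CommRingCat.ofHom (algebraMap V K)).hom
          ((Scheme.ΓSpecIso (CommRingCat.of V)).hom.hom (xW.appTop (e (e.symm ⟨g, hg⟩)).1))) = _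
      rw [e.apply_symm_apply]
      show ((Scheme.ΓSpecIso (CommRingCat.of V)).hom ≫ CommRingCat.ofHom (algebraMap V K) ≫
        (Scheme.ΓSpecIso (CommRingCat.of K)).inv) (xW.appTop g) = _
      rw [← Scheme.ΓSpecIso_naturality_assoc, Iso.hom_inv_id, Category.comp_id]
      rw [Scheme.Hom.comp_appTop]
      rfl)
  refine ⟨U, hyU, r ≫ W.ι, ?_⟩
  rw [Category.assoc, ← Scheme.Hom.resLE_comp_ι f hWj, ← Category.assoc, hr,
    Scheme.Hom.resLE_comp_ι]

/-- Finitely many usable tuples suffice over an affine open. -/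
theorem exists_usable_finset [IsAlgClosed K] [LocallyOfFinitePresentation f]
    (hf : Subtr.UnivSSubtrusive f) {Yj : Y.Opens} (hYj : IsAffineOpen Yj) :
    ∃ L : Finset (Σ n : ℕ, {a : {j : Fin (n + 1) // j ≠ 0} → K // Usable f γ Yj a}),
      ∀ (M : Model γ) (y : M.P) (V : ValuationSubring K), Centred M V y → M.q y ∈ Yj →
        ∃ c ∈ L, ∀ k, c.2.1 k ∈ V := by
  by_cases hγ : γ (closedPoint K) ∈ Yj
  swap
  · refine ⟨∅, fun M y V _ hy => absurd ?_ hγ⟩
    have := pt_mem_of_nonempty M (O := M.q ⁻¹ᵁ Yj) hy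
    rw [← M.fac]
    rw [Scheme.Hom.comp_apply]
    exact this
  let γj : Spec (CommRingCat.of K) ⟶ Spec Γ(Y, Yj) := IsOpenImmersion.lift hYj.fromSpec γ (by
    rw [hYj.range_fromSpec]; exact range_subset_of_closedPoint_mem γ hγ)
  let ρ : Γ(Y, Yj) ⟶ CommRingCat.of K := Spec.preimage γj
  have hρ : Spec.map ρ ≫ hYj.fromSpec = γ := by
    rw [Spec.map_preimage, IsOpenImmersion.lift_fac]
  obtain ⟨L, hL⟩ := exists_finset_valuation (Set.range ρ.hom)
    (fun c : (Σ n : ℕ, {a : {j : Fin (n + 1) // j ≠ 0} → K // Usable f γ Yj a}) => Set.range c.2.1)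
    (fun c => Set.finite_range _) (fun V hV => by
      let ρV : Γ(Y, Yj) ⟶ CommRingCat.of V :=
        CommRingCat.ofHom (ρ.hom.codRestrict V.toSubring fun r => hV ⟨r, rfl⟩)
      let xY : Spec (CommRingCat.of V) ⟶ Y := Spec.map ρV ≫ hYj.fromSpec
      obtain ⟨s, hs⟩ := exists_section_of_genS V (pullback.snd f xY)
        (SubtrDesc12.genS_of_univSSubtrusive hf (IsPullback.of_hasPullback f xY))
      have hsf : (s ≫ pullback.fst f xY) ≫ f = xY := by
        rw [Category.assoc, pullback.condition, ← Category.assoc, hs, Category.id_comp]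
      obtain ⟨n, a, ha, haV⟩ := usable_of_point (γ := γ) (f := f) hYj V (s ≫ pullback.fst f xY) (by
          rw [← Scheme.Hom.comp_apply, hsf]
          show xY (closedPoint V) ∈ (Yj : Set Y)
          rw [← hYj.range_fromSpec, Scheme.Hom.comp_apply]
          exact ⟨_, rfl⟩) (by
          rw [hsf, ← Category.assoc, ← Spec.map_comp]
          exact hρ)
      exact ⟨⟨n, a, ha⟩, by rintro _ ⟨k, rfl⟩; exact haV k⟩)
  refine ⟨L, fun M y V hy hyj => ?_⟩
  obtain ⟨x, hx, rfl⟩ := hy
  let xj : Spec (CommRingCat.of V) ⟶ Spec Γ(Y, Yj) := IsOpenImmersion.lift hYj.fromSpec (x ≫ M.q) (by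
    rw [hYj.range_fromSpec]
    exact range_subset_of_closedPoint_mem _ (by rw [Scheme.Hom.comp_apply]; exact hyj))
  have hfac : Spec.preimage xj ≫ CommRingCat.ofHom (algebraMap V K) = ρ := by
    refine Spec.map_injective ?_
    rw [Spec.map_comp, Spec.map_preimage, Spec.map_preimage, ← cancel_mono hYj.fromSpec,
      Category.assoc, IsOpenImmersion.lift_fac, IsOpenImmersion.lift_fac, ← Category.assoc, hx,
      M.fac]
  obtain ⟨c, hc, hcV⟩ := hL V (by
    rintro _ ⟨r, rfl⟩
    rw [← hfac]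
    exact ((Spec.preimage xj).hom r).2)
  exact ⟨c, hc, fun k => hcV ⟨k, rfl⟩⟩

/-- A model everywhere good. -/
theorem exists_model_good [IsAlgClosed K] [CompactSpace Y] [LocallyOfFinitePresentation f]
    (hf : Subtr.UnivSSubtrusive f) : ∃ M : Model γ, ∀ y, Good f M y := by
  classical
  let 𝒰 := Y.affineCover.finiteSubcover
  haveI : ∀ j, IsAffine (𝒰.X j) := fun j => inferInstanceAs (IsAffine (Y.affineCover.X _))
  have hO : ∀ j, IsAffineOpen (𝒰.f j).opensRange := fun j => isAffineOpen_opensRange _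
  choose L hL using fun j => exists_usable_finset (γ := γ) (f := f) hf (hO j)
  let T := Σ j : 𝒰.I₀, (L j)
  have key : ∀ S : Finset T, ∃ M : Model γ, ∀ t ∈ S, ∀ (y : M.P) (V : ValuationSubring K),
      Centred M V y → M.q y ∈ (𝒰.f t.1).opensRange → (∀ k, t.2.1.2.1 k ∈ V) → Good f M y := by
    intro S
    induction S using Finset.induction with
    | empty =>
      obtain ⟨M, -⟩ := exists_initial_model (γ := γ)
      exact ⟨M, fun t ht => absurd ht (Finset.notMem_empty t)⟩
    | @insert t S _ ih =>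
      obtain ⟨M, hM⟩ := ih
      obtain ⟨M', d, hd⟩ := t.2.1.2.2 M
      refine ⟨M', fun t' ht' y V hy hyj hV => ?_⟩
      rcases Finset.mem_insert.1 ht' with rfl | ht'
      · exact hd y V hy hyj hV
      · refine good_of_dom f d (hM t' ht' (d.m y) V (centred_of_dom d hy) ?_ hV)
        rwa [← Scheme.Hom.comp_apply, d.fac_q]
  haveI : ∀ j, Fintype (L j) := fun j => inferInstance
  obtain ⟨M, hM⟩ := key Finset.univ
  refine ⟨M, fun y => ?_⟩
  obtain ⟨V, hV⟩ := exists_centred M y
  have hj : M.q y ∈ (𝒰.f (𝒰.idx (M.q y))).opensRange := 𝒰.covers (M.q y)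
  obtain ⟨c, hc, hcV⟩ := hL _ M y V hV hj
  exact hM ⟨_, ⟨c, hc⟩⟩ (Finset.mem_univ _) y V hV hj hcV

end Groth.Agent.RefineDesc12
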