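import Mathlib.FieldTheory.IsAlgClosed.Basic
import Mathlib.RingTheory.Flat.TorsionFree
import Groth.Agent.Lib.SubtrDesc12.Spec
import Groth.Agent.S1378

/-!
# Sections over valuation rings of algebraically closed fields

A finitely presented morphism onto the spectrum of a valuation ring with algebraically closed
fraction field has a section as soon as some point over the closed point generalises to one over
the generic point.
-/

set_option autoImplicit false
set_option linter.style.haveILetI false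

universe u

open IsLocalRing CategoryTheory CategoryTheory.Limits AlgebraicGeometry

namespace Groth.Agent.RefineDesc12

variable {K : Type u} [Field K] [IsAlgClosed K] (V : ValuationSubring K)

theorem exists_retraction (C : Type u) [CommRing C] [Algebra V C] [Algebra.IsIntegral V C]
    (t₀ : Ideal C) [t₀.IsPrime] (ht₀ : t₀.comap (algebraMap V C) = ⊥) :
    ∃ τ : C →+* V, τ.comp (algebraMap V C) = RingHom.id V := by
  have hinj : Function.Injective (algebraMap V (C ⧸ t₀)) := by
    rw [RingHom.injective_iff_ker_eq_bot, IsScalarTower.algebraMap_eq V C (C ⧸ t₀),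
      ← RingHom.comap_ker, Ideal.Quotient.algebraMap_eq, Ideal.mk_ker, ht₀]
  haveI : FaithfulSMul V (C ⧸ t₀) := (faithfulSMul_iff_algebraMap_injective V (C ⧸ t₀)).2 hinj
  haveI : Algebra.IsIntegral V (C ⧸ t₀) :=
    ⟨fun x => by
      obtain ⟨c, rfl⟩ := Ideal.Quotient.mk_surjective x
      exact (Algebra.IsIntegral.isIntegral (R := V) c).map (Ideal.Quotient.mkₐ V t₀)⟩
  haveI : Algebra.IsAlgebraic V (C ⧸ t₀) := Algebra.IsIntegral.isAlgebraic
  let σ : (C ⧸ t₀) →ₐ[V] K := IsAlgClosed.lift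
  have hrange : ∀ x, σ x ∈ V := fun x => by
    obtain ⟨v, hv⟩ := IsIntegrallyClosed.isIntegral_iff.1
      ((Algebra.IsIntegral.isIntegral (R := V) x).map σ)
    rw [← hv]
    exact v.2
  refine ⟨((σ.toRingHom).codRestrict V.toSubring hrange).comp (Ideal.Quotient.mk t₀),
    RingHom.ext fun a => Subtype.ext ?_⟩
  exact σ.commutes a

theorem exists_section_of_genS {Z : Scheme.{u}} (h : Z ⟶ Spec (CommRingCat.of V))
    [LocallyOfFinitePresentation h] (hh : SubtrDesc12.GenS h) :
    ∃ s : Spec (CommRingCat.of V) ⟶ Z, s ≫ h = 𝟙 _ := by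
  obtain ⟨z, z', hz, hc, hg⟩ := hh
  obtain ⟨W, hW, hzW, -⟩ := exists_isAffineOpen_mem_and_subset (X := Z) (x := z) (U := ⊤) trivial
  have hz'W : z' ∈ W := hz.mem_open W.isOpen hzW
  let φ : CommRingCat.of V ⟶ Γ(Z, W) := Spec.preimage (hW.fromSpec ≫ h)
  have hφ : Spec.map φ = hW.fromSpec ≫ h := Spec.map_preimage _
  letI : Algebra V Γ(Z, W) := φ.hom.toAlgebra
  haveI : Algebra.FinitePresentation V Γ(Z, W) := by
    have : LocallyOfFinitePresentation (Spec.map φ) := by rw [hφ]; infer_instance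
    exact (HasRingHomProperty.Spec_iff (P := @LocallyOfFinitePresentation)).1 this
  obtain ⟨P, hP⟩ : z ∈ Set.range hW.fromSpec := by rw [hW.range_fromSpec]; exact hzW
  obtain ⟨Q, hQ⟩ : z' ∈ Set.range hW.fromSpec := by rw [hW.range_fromSpec]; exact hz'W
  have hQP : Q.asIdeal ≤ P.asIdeal := by
    refine (PrimeSpectrum.le_iff_specializes Q P).2
      (hW.fromSpec.isOpenEmbedding.isInducing.specializes_iff.1 ?_)
    show hW.fromSpec Q ⤳ hW.fromSpec P
    rw [hP, hQ]
    exact hz
  have hPm : P.asIdeal.comap φ.hom = maximalIdeal V := by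
    have : Spec.map φ P = closedPoint V := by rw [hφ, Scheme.Hom.comp_apply, hP, hc]
    exact congrArg PrimeSpectrum.asIdeal this
  have hQb : Q.asIdeal.comap φ.hom = ⊥ := by
    have : Spec.map φ Q = SubtrDesc12.gen V := by rw [hφ, Scheme.Hom.comp_apply, hQ, hg]
    exact congrArg PrimeSpectrum.asIdeal this
  haveI := Q.isPrime
  haveI := P.isPrime
  let B := Γ(Z, W) ⧸ Q.asIdeal
  have hinj : Function.Injective (algebraMap V B) := by
    rw [RingHom.injective_iff_ker_eq_bot, IsScalarTower.algebraMap_eq V Γ(Z, W)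
      (Γ(Z, W) ⧸ Q.asIdeal), ← RingHom.comap_ker, Ideal.Quotient.algebraMap_eq, Ideal.mk_ker]
    exact hQb
  haveI : Module.Flat V B := ValSq12.flat_of_injective hinj
  haveI : Module.IsTorsionFree V B := by
    rw [Submodule.isTorsionFree_iff_torsion_eq_bot,
      ← Module.Flat.flat_iff_torsion_eq_bot_of_isBezout]
    infer_instance
  haveI : Module.FinitePresentation Γ(Z, W) B :=
    GlobalFP7.finitePresentation_of_torsionFree_prufer V
      (fun p _ => ValDiv15.valuationRing_localization p)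
  haveI : Algebra.FinitePresentation V B := by
    refine Algebra.FinitePresentation.quotient ?_
    have h := Module.FinitePresentation.fg_ker Q.asIdeal.mkQ (Submodule.mkQ_surjective _)
    rwa [Submodule.ker_mkQ] at h
  let g : Spec (CommRingCat.of B) ⟶ Spec (CommRingCat.of V) :=
    Spec.map (CommRingCat.ofHom (algebraMap V B))
  haveI : Flat g := Flat.SpecMap_iff.2 (RingHom.flat_algebraMap_iff.2 inferInstance)
  haveI : LocallyOfFinitePresentation g :=
    (HasRingHomProperty.Spec_iff (P := @LocallyOfFinitePresentation)).2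
      (RingHom.finitePresentation_algebraMap.2 inferInstance)
  haveI : Surjective g := ⟨fun p => by
    haveI := p.isPrime
    let P' : Ideal B := P.asIdeal.map (Ideal.Quotient.mk Q.asIdeal)
    haveI : P'.IsPrime :=
      Ideal.map_isPrime_of_surjective Ideal.Quotient.mk_surjective (by rwa [Ideal.mk_ker])
    haveI : P'.LiesOver (maximalIdeal V) := ⟨by
      rw [← hPm]
      show _ = P'.comap ((Ideal.Quotient.mk Q.asIdeal).comp φ.hom)
      rw [← Ideal.comap_comap, Ideal.comap_map_of_surjective _ Ideal.Quotient.mk_surjective,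
        ← RingHom.ker_eq_comap_bot, Ideal.mk_ker, sup_eq_left.2 hQP]⟩
    obtain ⟨R, -, hR, hRp⟩ := Ideal.exists_ideal_le_liesOver_of_le (R := V) P'
      (IsLocalRing.le_maximalIdeal p.isPrime.ne_top : p.asIdeal ≤ maximalIdeal V)
    exact ⟨(⟨R, hR⟩ : PrimeSpectrum B), PrimeSpectrum.ext (Ideal.over_def R p.asIdeal).symm⟩⟩
  obtain ⟨T, π, hπs, hπi, hloc⟩ := Groth.Agent.S1378.result g
  haveI : IsAffine T := isAffine_of_isAffineHom π
  let ψ : CommRingCat.of V ⟶ Γ(T, ⊤) := Spec.preimage (T.isoSpec.inv ≫ π)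
  have hψ : Spec.map ψ = T.isoSpec.inv ≫ π := Spec.map_preimage _
  letI : Algebra V Γ(T, ⊤) := ψ.hom.toAlgebra
  haveI : Algebra.IsIntegral V Γ(T, ⊤) := ⟨by
    have : IsIntegralHom (Spec.map ψ) := by rw [hψ]; infer_instance
    exact IsIntegralHom.SpecMap_iff.1 this⟩
  obtain ⟨t, ht⟩ := π.surjective (SubtrDesc12.gen V)
  let t₀ : Spec Γ(T, ⊤) := T.isoSpec.hom t
  haveI := t₀.isPrime
  have ht₀ : t₀.asIdeal.comap (algebraMap V Γ(T, ⊤)) = ⊥ := by
    have : Spec.map ψ t₀ = SubtrDesc12.gen V := by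
      rw [hψ, ← Scheme.Hom.comp_apply, Iso.hom_inv_id_assoc, ht]
    exact congrArg PrimeSpectrum.asIdeal this
  obtain ⟨τ, hτ⟩ := exists_retraction V Γ(T, ⊤) t₀.asIdeal ht₀
  let sT : Spec (CommRingCat.of V) ⟶ T := Spec.map (CommRingCat.ofHom τ) ≫ T.isoSpec.inv
  have hsT : sT ≫ π = 𝟙 _ := by
    rw [Category.assoc, ← hψ, ← Spec.map_comp]
    rw [show ψ ≫ CommRingCat.ofHom τ = 𝟙 _ from CommRingCat.hom_ext hτ, Spec.map_id]
  obtain ⟨U, r, hU, hr⟩ := hloc (sT (closedPoint V))
  have hsub : Set.range sT ⊆ Set.range U.ι := by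
    rintro _ ⟨p, rfl⟩
    rw [Scheme.Opens.range_ι]
    exact ((IsLocalRing.specializes_closedPoint p).map sT.continuous).mem_open U.isOpen hU
  refine ⟨IsOpenImmersion.lift U.ι sT hsub ≫ r ≫
    Spec.map (CommRingCat.ofHom (Ideal.Quotient.mk Q.asIdeal)) ≫ hW.fromSpec, ?_⟩
  simp only [Category.assoc]
  rw [← hφ, ← Spec.map_comp,
    show φ ≫ CommRingCat.ofHom (Ideal.Quotient.mk Q.asIdeal) = CommRingCat.ofHom (algebraMap V B) from rfl,
    hr, IsOpenImmersion.lift_fac_assoc, hsT]

end Groth.Agent.RefineDesc12
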