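import Groth.Agent.Lib.RefineDesc12.Lift
import Groth.Agent.Lib.CurveNF.Compact

/-!
# Integral proper models through which a point with values in a field factors
-/

set_option autoImplicit false
set_option linter.style.haveILetI false
set_option backward.isDefEq.respectTransparency false

universe u

open IsLocalRing CategoryTheory CategoryTheory.Limits AlgebraicGeometry

namespace Groth.Agent.RefineDesc12

theorem isIntegral_image {K : Type u} [Field K] {Y : Scheme.{u}}
    (g : Spec (CommRingCat.of K) ⟶ Y) [QuasiCompact g] :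
    IsIntegral g.image ∧ IsDominant g.toImage := by
  haveI : IsReduced g.image := CurveNF.isReduced_image g
  haveI : IrreducibleSpace g.image := by
    rw [irreducibleSpace_def]
    convert! ((IrreducibleSpace.isIrreducible_univ (Spec (CommRingCat.of K))).image _
      g.toImage.continuous.continuousOn).closure
    simpa using g.toImage.denseRange.closure_range.symm
  exact ⟨isIntegral_of_irreducibleSpace_of_isReduced _, inferInstance⟩

/-- A map from a dominated integral scheme to an affine scheme exists once the generators pull back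
into the sections of the scheme. -/
theorem exists_lift_of_generators {K : Type u} [Field K] {U W S : Scheme.{u}} [IsIntegral U]
    [IsAffine W] [IsAffine S] (w : Spec (CommRingCat.of K) ⟶ U) [IsDominant w] (φ : W ⟶ S)
    (r : U ⟶ S) (x : Spec (CommRingCat.of K) ⟶ W) (hx : x ≫ φ = w ≫ r)
    (G : Set Γ(W, ⊤)) (hG : Subring.closure (Set.range φ.appTop.hom ∪ G) = ⊤)
    (hGw : ∀ g ∈ G, x.appTop g ∈ Set.range w.appTop) :
    ∃ s : U ⟶ W, s ≫ φ = r ∧ w ≫ s = x := by
  have hinj : Function.Injective w.appTop := by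
    change Function.Injective w.appTop.hom
    rw [injective_iff_map_eq_zero]
    intro b hb
    rw [← basicOpen_eq_bot_iff]
    by_contra hne
    have hne' : (U.basicOpen b : Set U).Nonempty := by
      rw [Set.nonempty_iff_ne_empty]
      intro h
      exact hne (TopologicalSpace.Opens.ext h)
    obtain ⟨p, hpt⟩ := w.denseRange.exists_mem_open (U.basicOpen b).isOpen hne'
    have hp : p ∈ (Spec (CommRingCat.of K)).basicOpen (w.appTop.hom b) := by
      rw [← Scheme.preimage_basicOpen_top]
      exact hpt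
    rw [hb, Scheme.basicOpen_zero] at hp
    exact hp
  let T : Subring Γ(W, ⊤) := (w.appTop.hom.range).comap x.appTop.hom
  have hT : ∀ g, g ∈ T := by
    intro g
    have hle : Subring.closure (Set.range φ.appTop.hom ∪ G) ≤ T := by
      refine Subring.closure_le.2 ?_
      rintro _ (⟨c, rfl⟩ | hg)
      · refine ⟨r.appTop c, ?_⟩
        have := congr($(congrArg Scheme.Hom.appTop hx).hom c)
        simp only [Scheme.Hom.comp_appTop, CommRingCat.hom_comp, RingHom.comp_apply] at this
        exact this.symm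
      · exact hGw _ hg
    rw [hG] at hle
    exact hle trivial
  let e := RingEquiv.ofBijective w.appTop.hom.rangeRestrict
    ⟨fun a b h => hinj (congrArg Subtype.val h), w.appTop.hom.rangeRestrict_surjective⟩
  let θ : Γ(W, ⊤) ⟶ Γ(U, ⊤) :=
    CommRingCat.ofHom (e.symm.toRingHom.comp (x.appTop.hom.codRestrict w.appTop.hom.range hT))
  have hθ : θ ≫ w.appTop = x.appTop := CommRingCat.hom_ext <| RingHom.ext fun g =>
    congrArg Subtype.val (e.apply_symm_apply ⟨x.appTop g, hT g⟩)
  have hs : (U.toSpecΓ ≫ Spec.map θ ≫ W.isoSpec.inv).appTop = θ := by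
    simp [Scheme.isoSpec]
  refine ⟨U.toSpecΓ ≫ Spec.map θ ≫ W.isoSpec.inv,
    ext_of_isAffine (CommRingCat.hom_ext (RingHom.ext fun c => hinj ?_)),
    ext_of_isAffine (by rw [Scheme.Hom.comp_appTop, hs, hθ])⟩
  rw [Scheme.Hom.comp_appTop, hs]
  have := congr($(congrArg Scheme.Hom.appTop hx).hom c)
  simp only [Scheme.Hom.comp_appTop, CommRingCat.hom_comp, RingHom.comp_apply] at this ⊢
  rw [← this]
  exact congr($(hθ).hom _)

variable {Y : Scheme.{u}} {K : Type u} [Field K] (γ : Spec (CommRingCat.of K) ⟶ Y)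

/-- An integral scheme proper over the base with a dominant point over the given one. -/
structure Model where
  /-- The model. -/
  P : Scheme.{u}
  isIntegral : IsIntegral P
  /-- The structure morphism. -/
  q : P ⟶ Y
  isProper : IsProper q
  /-- The point. -/
  pt : Spec (CommRingCat.of K) ⟶ P
  isDominant : IsDominant pt
  fac : pt ≫ q = γ

attribute [instance] Model.isIntegral Model.isProper Model.isDominant

variable {γ} {X : Scheme.{u}} (f : X ⟶ Y)

/-- Near `y` the structure morphism of the model lifts to `X`. -/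
def Good (M : Model γ) (y : M.P) : Prop :=
  ∃ U : M.P.Opens, y ∈ U ∧ ∃ s : (U : Scheme.{u}) ⟶ X, s ≫ f = U.ι ≫ M.q

/-- The valuation ring has centre `y` on the model. -/
def Centred (M : Model γ) (V : ValuationSubring K) (y : M.P) : Prop :=
  ∃ x : Spec (CommRingCat.of V) ⟶ M.P,
    Spec.map (CommRingCat.ofHom (algebraMap V K)) ≫ x = M.pt ∧ x (closedPoint V) = y

/-- Morphisms of models. -/
structure Model.Dom (M' M : Model γ) where
  /-- The underlying morphism. -/
  m : M'.P ⟶ M.P
  fac_q : m ≫ M.q = M'.q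
  fac_pt : M'.pt ≫ m = M.pt

theorem good_of_dom {M' M : Model γ} (d : M'.Dom M) {y : M'.P} (h : Good f M (d.m y)) :
    Good f M' y := by
  obtain ⟨U, hy, s, hs⟩ := h
  refine ⟨d.m ⁻¹ᵁ U, hy, (d.m ∣_ U) ≫ s, ?_⟩
  rw [Category.assoc, hs, morphismRestrict_ι_assoc, d.fac_q]

theorem centred_of_dom {M' M : Model γ} (d : M'.Dom M) {V : ValuationSubring K} {y : M'.P}
    (h : Centred M' V y) : Centred M V (d.m y) := by
  obtain ⟨x, hx, hxy⟩ := h
  exact ⟨x ≫ d.m, by rw [← Category.assoc, hx, d.fac_pt], by rw [Scheme.Hom.comp_apply, hxy]⟩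

/-- Every point of a model is the centre of a valuation ring. -/
theorem exists_centred (M : Model γ) (y : M.P) : ∃ V, Centred M V y := by
  have hgen : M.pt (closedPoint K) ⤳ y := by
    rw [specializes_iff_mem_closure]
    have hr : Set.range M.pt = {M.pt (closedPoint K)} := by
      ext z
      constructor
      · rintro ⟨p, rfl⟩
        rw [Subsingleton.elim p (closedPoint K)]
        rfl
      · rintro rfl
        exact ⟨_, rfl⟩
    rw [← hr, M.pt.denseRange.closure_range]
    trivial
  let g : M.P.presheaf.stalk y ⟶ CommRingCat.of K :=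
    M.P.presheaf.stalkSpecializes hgen ≫ Scheme.stalkClosedPointTo M.pt
  obtain ⟨A, hA, hA_local⟩ := exists_factor_valuationRing g.hom
  let g' : M.P.presheaf.stalk y ⟶ CommRingCat.of A := CommRingCat.ofHom (g.hom.codRestrict _ hA)
  refine ⟨A, Spec.map g' ≫ M.P.fromSpecStalk y, ?_, ?_⟩
  · rw [← Spec.map_comp_assoc, show g' ≫ CommRingCat.ofHom (algebraMap A K) = g from rfl,
      Spec.map_comp_assoc, Scheme.SpecMap_stalkSpecializes_fromSpecStalk,
      Scheme.Spec_stalkClosedPointTo_fromSpecStalk]
  · rw [Scheme.Hom.comp_apply]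
    have : Spec.map g' (closedPoint A) = closedPoint (M.P.presheaf.stalk y) :=
      comap_closedPoint (S := A) (g.hom.codRestrict A.toSubring hA)
    rw [this, Scheme.fromSpecStalk_closedPoint]

variable [QuasiSeparatedSpace Y]

/-- The closure of a point of a scheme proper over the base. -/
theorem exists_model {P₀ : Scheme.{u}} (π : P₀ ⟶ Y) [IsProper π]
    (pt₀ : Spec (CommRingCat.of K) ⟶ P₀) (h : pt₀ ≫ π = γ) :
    ∃ (M : Model γ) (ι : M.P ⟶ P₀), ι ≫ π = M.q ∧ M.pt ≫ ι = pt₀ := by
  haveI : QuasiCompact (γ ≫ terminal.from Y) := (quasiCompact_iff_compactSpace _).2 inferInstance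
  haveI : QuasiSeparated (terminal.from Y) := (quasiSeparated_iff_quasiSeparatedSpace _).2 inferInstance
  haveI : QuasiCompact γ := QuasiCompact.of_comp γ (terminal.from Y)
  haveI : QuasiCompact (pt₀ ≫ π) := by rw [h]; infer_instance
  haveI : QuasiCompact pt₀ := QuasiCompact.of_comp pt₀ π
  obtain ⟨hint, hdom⟩ := isIntegral_image pt₀
  exact ⟨⟨pt₀.image, hint, pt₀.imageι ≫ π, inferInstance, pt₀.toImage, hdom,
    by rw [Scheme.Hom.toImage_imageι_assoc, h]⟩, pt₀.imageι, rfl, Scheme.Hom.toImage_imageι _⟩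

theorem exists_initial_model : ∃ _M : Model γ, True := by
  obtain ⟨M, -⟩ := exists_model (𝟙 Y) γ (Category.comp_id γ)
  exact ⟨M, trivial⟩

variable {n : ℕ} (a : {j : Fin (n + 1) // j ≠ 0} → K)

/-- Adjoining a chart where prescribed elements of the field are regular. -/
theorem exists_step (M : Model γ) :
    ∃ (M' : Model γ) (_ : M'.Dom M) (O : M'.P.Opens),
      (∀ (V : ValuationSubring K) (y : M'.P), Centred M' V y → (∀ k, a k ∈ V) → y ∈ O) ∧
        (∀ (U : M'.P.Opens) (w : Spec (CommRingCat.of K) ⟶ U), U ≤ O → w ≫ U.ι = M'.pt →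
          ∀ k, (Scheme.ΓSpecIso (CommRingCat.of K)).inv.hom (a k) ∈ Set.range w.appTop) := by
  let Z := ULift.{u} ℤ
  let c := CohB1.ProjSpace.toSpec n Z
  haveI : IsProper c := ProjSpace.isProper_toSpec n Z
  let ev : MvPolynomial {j : Fin (n + 1) // j ≠ 0} Z →+* K :=
    MvPolynomial.eval₂Hom ((Int.castRingHom K).comp ULift.ringEquiv.toRingHom) a
  let χ := ProjSpace.chart n Z 0
  let pK : Spec (CommRingCat.of K) ⟶ CohB1.ProjSpace n Z :=
    Spec.map (CommRingCat.ofHom ev) ≫ χ
  let tM := M.q ≫ specULiftZIsTerminal.from Y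
  obtain ⟨M', ι, hι, hpt⟩ := exists_model (γ := γ) (pullback.fst tM c ≫ M.q)
    (pullback.lift M.pt pK (specULiftZIsTerminal.hom_ext _ _))
    (by rw [pullback.lift_fst_assoc, M.fac])
  let ρ : M'.P ⟶ CohB1.ProjSpace n Z := ι ≫ pullback.snd tM c
  have hρ : M'.pt ≫ ρ = pK := by
    rw [← Category.assoc, hpt, pullback.lift_snd]
  refine ⟨M', ⟨ι ≫ pullback.fst tM c, by rw [Category.assoc, hι], by
    rw [← Category.assoc, hpt, pullback.lift_fst]⟩, ρ ⁻¹ᵁ χ.opensRange, ?_, ?_⟩
  · intro V y hy ha
    obtain ⟨x, hx, rfl⟩ := hy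
    let evV : MvPolynomial {j : Fin (n + 1) // j ≠ 0} Z →+* V :=
      MvPolynomial.eval₂Hom ((Int.castRingHom V).comp ULift.ringEquiv.toRingHom) fun k => ⟨a k, ha k⟩
    have hev : (algebraMap V K).comp evV = ev := by
      refine MvPolynomial.ringHom_ext (fun r => ?_) fun k => ?_
      · simp [evV, ev]
      · simp [evV, ev]
    haveI : IsDominant (Spec.map (CommRingCat.ofHom (algebraMap V K))) := by
      refine ⟨?_⟩
      exact (PrimeSpectrum.denseRange_comap_iff_ker_le_nilRadical _).2
        (((RingHom.injective_iff_ker_eq_bot (algebraMap V K)).1 (IsFractionRing.injective V K)).le.trans bot_le)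
    have heq : x ≫ ρ = Spec.map (CommRingCat.ofHom evV) ≫ χ := by
      refine ext_of_isDominant_of_isSeparated c (specULiftZIsTerminal.hom_ext _ _)
        (Spec.map (CommRingCat.ofHom (algebraMap V K))) ?_
      rw [← Category.assoc, hx, hρ, ← Category.assoc, ← Spec.map_comp, ← CommRingCat.ofHom_comp, hev]
    show ρ (x (closedPoint V)) ∈ χ.opensRange
    rw [← Scheme.Hom.comp_apply, heq, Scheme.Hom.comp_apply]
    exact ⟨_, rfl⟩
  · intro U w hU hw k
    have hsub : Set.range (U.ι ≫ ρ) ⊆ Set.range χ := by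
      rintro _ ⟨u, rfl⟩
      exact hU u.2
    let l := IsOpenImmersion.lift χ (U.ι ≫ ρ) hsub
    have hl : w ≫ l = Spec.map (CommRingCat.ofHom ev) := by
      rw [← cancel_mono χ, Category.assoc, IsOpenImmersion.lift_fac, ← Category.assoc, hw, hρ]
    refine ⟨l.appTop ((Scheme.ΓSpecIso _).inv (MvPolynomial.X k)), ?_⟩
    show (l.appTop ≫ w.appTop) _ = _
    rw [← Scheme.Hom.comp_appTop, hl]
    show ((Scheme.ΓSpecIso _).inv ≫ (Spec.map (CommRingCat.ofHom ev)).appTop) _ = _
    rw [← Scheme.ΓSpecIso_inv_naturality]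
    show (Scheme.ΓSpecIso (CommRingCat.of K)).inv.hom (ev (MvPolynomial.X k)) = _
    simp [ev]

end Groth.Agent.RefineDesc12
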