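import Groth.Agent.Lib.RefineDesc12.Lift
import Groth.Agent.Lib.FinRefine4.Alg
import Mathlib.RingTheory.ZariskisMainTheorem
import Mathlib.RingTheory.Ideal.MinimalPrime.Basic
import Mathlib.AlgebraicGeometry.Morphisms.QuasiFinite

/-!
# Quasi-finite covers of affine schemes refined by finite covers
-/

set_option autoImplicit false
set_option linter.style.haveILetI false
set_option backward.isDefEq.respectTransparency false

universe u

open IsLocalRing CategoryTheory CategoryTheory.Limits AlgebraicGeometry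

namespace Groth.Agent.RefineDesc12

/-- Local sections of quasi-finite covers over an integrally closed subring of an algebraically
closed field. -/
theorem exists_local_section {K : Type u} [Field K] [IsAlgClosed K] {R : CommRingCat.{u}}
    [Algebra R K] (hinj : Function.Injective (algebraMap R K))
    (hint : ∀ x : K, IsIntegral R x → x ∈ (algebraMap R K).range)
    {X : Scheme.{u}} (f : X ⟶ Spec R) [LocallyOfFinitePresentation f] [LocallyQuasiFinite f]
    (hf : Subtr.UnivSSubtrusive f) (p : Spec R) :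
    ∃ (r : R) (W : X.Opens) (hW : IsAffineOpen W)
      (τ : Γ(X, W) ⟶ CommRingCat.of (Localization.Away r)),
      r ∉ p.asIdeal ∧ Spec.preimage (hW.fromSpec ≫ f) ≫ τ =
        CommRingCat.ofHom (algebraMap R (Localization.Away r)) := by
  classical
  haveI := p.isPrime
  haveI : IsDomain R := hinj.isDomain _
  let g₀ : Localization.AtPrime p.asIdeal →+* K :=
    IsLocalization.lift (g := algebraMap R K) (M := p.asIdeal.primeCompl) fun s =>
      IsUnit.mk0 _ fun h => s.2 (by
        have hs : (s : R) = 0 := hinj (by rw [h, map_zero])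
        rw [hs]
        exact p.asIdeal.zero_mem)
  obtain ⟨V, hV, hVloc⟩ := exists_factor_valuationRing g₀
  let gV : Localization.AtPrime p.asIdeal →+* V := g₀.codRestrict V.toSubring hV
  haveI : IsLocalHom gV := hVloc
  let θR : R →+* V := gV.comp (algebraMap R (Localization.AtPrime p.asIdeal))
  have hθR : (algebraMap V K).comp θR = algebraMap R K :=
    RingHom.ext fun r => IsLocalization.lift_eq _ r
  have hθRp : (maximalIdeal V).comap θR = p.asIdeal := by
    rw [← Ideal.comap_comap,
      show (maximalIdeal V).comap gV = maximalIdeal _ from ((local_hom_TFAE gV).out 0 4).1 ‹_›]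
    exact Localization.AtPrime.under_maximalIdeal
  let xR : Spec (CommRingCat.of V) ⟶ Spec R :=
    Spec.map (CommRingCat.ofHom θR : R ⟶ CommRingCat.of V)
  obtain ⟨s, hs⟩ := exists_section_of_genS V (pullback.snd f xR)
    (SubtrDesc12.genS_of_univSSubtrusive hf (IsPullback.of_hasPullback f xR))
  let x := s ≫ pullback.fst f xR
  have hx : x ≫ f = xR := by
    rw [Category.assoc, pullback.condition, ← Category.assoc, hs, Category.id_comp]
  obtain ⟨W, hW, hxW, -⟩ := exists_isAffineOpen_mem_and_subset (X := X) (x := x (closedPoint V))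
    (U := ⊤) trivial
  let φ : R ⟶ Γ(X, W) := Spec.preimage (hW.fromSpec ≫ f)
  have hφ : Spec.map φ = hW.fromSpec ≫ f := Spec.map_preimage _
  let xW : Spec (CommRingCat.of V) ⟶ Spec Γ(X, W) := IsOpenImmersion.lift hW.fromSpec x (by
    rw [hW.range_fromSpec]
    rintro _ ⟨q, rfl⟩
    exact ((IsLocalRing.specializes_closedPoint q).map x.continuous).mem_open W.isOpen hxW)
  let θ : Γ(X, W) ⟶ CommRingCat.of V := Spec.preimage xW
  have hθ : φ ≫ θ = CommRingCat.ofHom θR := by
    refine Spec.map_injective ?_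
    rw [Spec.map_comp, Spec.map_preimage, hφ, ← Category.assoc, IsOpenImmersion.lift_fac, hx]
  letI : Algebra R Γ(X, W) := φ.hom.toAlgebra
  haveI : Algebra.FiniteType R Γ(X, W) := by
    have : LocallyOfFiniteType (Spec.map φ) := by rw [hφ]; infer_instance
    exact (HasRingHomProperty.Spec_iff (P := @LocallyOfFiniteType)).1 this
  haveI : Algebra.QuasiFinite R Γ(X, W) := by
    have : LocallyQuasiFinite (Spec.map φ) := by rw [hφ]; infer_instance
    exact (HasRingHomProperty.Spec_iff (P := @LocallyQuasiFinite)).1 this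
  let θK : Γ(X, W) →ₐ[R] K :=
    { (algebraMap V K).comp θ.hom with
      commutes' := fun r => by
        show algebraMap V K (θ.hom (φ.hom r)) = _
        rw [← hθR]
        exact congrArg (algebraMap V K) congr($(hθ).hom r) }
  let S := Γ(X, W) ⧸ RingHom.ker θK
  haveI : (RingHom.ker θK).IsPrime := RingHom.ker_isPrime θK
  let θS : S →+* V := Ideal.Quotient.lift (RingHom.ker θK) θ.hom fun b hb =>
    Subtype.ext hb
  haveI : Algebra.FiniteType R S :=
    Algebra.FiniteType.of_surjective (Ideal.Quotient.mkₐ R (RingHom.ker θK)) Ideal.Quotient.mk_surjective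
  haveI : Algebra.QuasiFinite R S := inferInstance
  let P : Ideal S := (maximalIdeal V).comap θS
  haveI : P.IsPrime := inferInstance
  obtain ⟨r, hrP, hrint, hr⟩ :=
    Algebra.zariskisMainProperty_iff.1 (Algebra.ZariskisMainProperty.of_finiteType (R := R) P)
  let θSK : S →ₐ[R] K :=
    Ideal.Quotient.liftₐ (RingHom.ker θK) θK fun b hb => hb
  have hθSK : ∀ z, θSK z = algebraMap V K (θS z) := by
    intro z
    obtain ⟨b, rfl⟩ := Ideal.Quotient.mk_surjective z
    rfl
  obtain ⟨r₀, hr₀⟩ := hint _ (hrint.map θSK)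
  have hr₀V : θR r₀ = θS r := IsFractionRing.injective V K (by
    rw [← RingHom.comp_apply, hθR, hr₀, hθSK])
  have hr₀p : r₀ ∉ p.asIdeal := by
    rw [← hθRp, Ideal.mem_comap, hr₀V]
    exact hrP
  have hr₀0 : algebraMap R K r₀ ≠ 0 := fun h => hr₀p (by
    rw [hinj (h.trans (map_zero _).symm)]
    exact p.asIdeal.zero_mem)
  let ν : Localization.Away r₀ →+* K := IsLocalization.Away.lift r₀ (IsUnit.mk0 _ hr₀0)
  have hν : Function.Injective ν := by
    rw [injective_iff_map_eq_zero]
    intro z hz
    obtain ⟨n, c, hc⟩ := IsLocalization.Away.surj r₀ z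
    have hc0 : c = 0 := hinj (by
      have := congrArg ν hc
      rw [map_mul, hz, zero_mul, IsLocalization.Away.lift_eq] at this
      rw [← this, map_zero])
    rw [hc0, map_zero] at hc
    exact ((IsLocalization.Away.algebraMap_isUnit r₀).pow n).mul_left_eq_zero.1 hc
  have hmem : ∀ b, θK b ∈ ν.range := by
    intro b
    obtain ⟨m, hm⟩ := hr (Ideal.Quotient.mk _ b)
    obtain ⟨c, hc⟩ := hint _ (hm.map θSK)
    refine ⟨algebraMap R _ c * IsLocalization.Away.invSelf r₀ ^ m, ?_⟩
    have hinv : ν (IsLocalization.Away.invSelf r₀) * algebraMap R K r₀ = 1 := by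
      rw [← IsLocalization.Away.lift_eq (S := Localization.Away r₀) r₀ (IsUnit.mk0 _ hr₀0) r₀,
        ← map_mul, mul_comm,
        IsLocalization.Away.mul_invSelf, map_one]
    rw [map_mul, map_pow, IsLocalization.Away.lift_eq, hc, map_mul, map_pow, ← hr₀,
      mul_comm (algebraMap R K r₀ ^ m), mul_assoc, ← mul_pow, mul_comm (algebraMap R K r₀), hinv,
      one_pow, mul_one]
    rfl
  let e := RingEquiv.ofBijective ν.rangeRestrict
    ⟨fun a b h => hν (congrArg Subtype.val h), ν.rangeRestrict_surjective⟩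
  refine ⟨r₀, W, hW, CommRingCat.ofHom (e.symm.toRingHom.comp (θK.toRingHom.codRestrict ν.range hmem)),
    hr₀p, CommRingCat.hom_ext (RingHom.ext fun c => hν ?_)⟩
  show ν (e.symm ⟨θK (φ.hom c), hmem _⟩) = ν (algebraMap R (Localization.Away r₀) c)
  rw [IsLocalization.Away.lift_eq, ← θK.commutes]
  exact congrArg Subtype.val (e.apply_symm_apply ⟨θK (φ.hom c), hmem _⟩)

/-- Local sections over the factors give local sections over the product. -/
theorem exists_key {R : CommRingCat.{u}} {σ : Type u} [Finite σ] [DecidableEq σ] (A₀ : σ → Type u)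
    [∀ P, CommRing (A₀ P)] [∀ P, Algebra R (A₀ P)] {X : Scheme.{u}} (f : X ⟶ Spec R)
    (hsec : ∀ (P : σ) (p : Spec (CommRingCat.of (A₀ P))),
      let m := Spec.map (CommRingCat.ofHom (algebraMap R (A₀ P)))
      ∃ (r : A₀ P) (W' : (pullback f m).Opens) (hW' : IsAffineOpen W')
        (τ : Γ(pullback f m, W') ⟶ CommRingCat.of (Localization.Away r)),
        r ∉ p.asIdeal ∧ Spec.preimage (hW'.fromSpec ≫ pullback.snd f m) ≫ τ =
          CommRingCat.ofHom (algebraMap (A₀ P) (Localization.Away r)))
    (y : Spec (CommRingCat.of (∀ P, A₀ P))) :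
    ∃ (a : ∀ P, A₀ P) (W : X.Opens) (hW : IsAffineOpen W)
      (τ : Γ(X, W) ⟶ CommRingCat.of (Localization.Away a)),
      y ∈ PrimeSpectrum.basicOpen a ∧ Spec.preimage (hW.fromSpec ≫ f) ≫ τ =
        CommRingCat.ofHom (algebraMap R (∀ P, A₀ P)) ≫
          CommRingCat.ofHom (algebraMap (∀ P, A₀ P) (Localization.Away a)) := by
  obtain ⟨P, p, hp⟩ := PrimeSpectrum.exists_comap_evalRingHom_eq y
  let A : CommRingCat.{u} := CommRingCat.of (A₀ P)
  let m : Spec A ⟶ Spec R := Spec.map (CommRingCat.ofHom (algebraMap R (A₀ P)))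
  obtain ⟨r, W', hW', τ, hrp, hτ⟩ := hsec P p
  let jA : Spec (CommRingCat.of (Localization.Away r)) ⟶ X :=
    Spec.map τ ≫ hW'.fromSpec ≫ pullback.fst f m
  have hjA : jA ≫ f = Spec.map (CommRingCat.ofHom (algebraMap A (Localization.Away r))) ≫ m := by
    simp only [jA, Category.assoc, pullback.condition]
    rw [← reassoc_of% (Spec.map_preimage (hW'.fromSpec ≫ pullback.snd f m)), ← Spec.map_comp_assoc, hτ]
  obtain ⟨q₀, hq₀⟩ : ∃ q₀ : Spec (CommRingCat.of (Localization.Away r)),
      Spec.map (CommRingCat.ofHom (algebraMap A (Localization.Away r))) q₀ = p := by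
    have : p ∈ (PrimeSpectrum.basicOpen r : Set (PrimeSpectrum A)) := hrp
    rw [← PrimeSpectrum.localization_away_comap_range (Localization.Away r) r] at this
    exact this
  obtain ⟨W, hW, hqW, -⟩ := exists_isAffineOpen_mem_and_subset (X := X) (x := jA q₀) (U := ⊤) trivial
  obtain ⟨_, ⟨b, rfl⟩, hqb, hbW⟩ :=
    PrimeSpectrum.isTopologicalBasis_basic_opens.exists_subset_of_mem_open
      (show q₀ ∈ ((jA ⁻¹ᵁ W : _) : Set (Spec (CommRingCat.of (Localization.Away r)))) from hqW)
      (jA ⁻¹ᵁ W).2
  obtain ⟨n, c, hc⟩ := IsLocalization.Away.surj r b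
  let a : ∀ P, A₀ P := Pi.single P (r * c)
  have hcq : c ∉ p.asIdeal := by
    intro hcp
    rw [← hq₀] at hcp
    have hmem : algebraMap A (Localization.Away r) c ∈ q₀.asIdeal := hcp
    rw [← hc] at hmem
    rcases q₀.isPrime.mem_or_mem hmem with h | h
    · exact hqb h
    · exact q₀.isPrime.ne_top (Ideal.eq_top_of_isUnit_mem _ h
        ((IsLocalization.Away.algebraMap_isUnit r).pow n))
  have hay : y ∈ PrimeSpectrum.basicOpen a := by
    rw [← hp]
    show Pi.evalRingHom _ P a ∉ p.asIdeal
    simp only [a, Pi.evalRingHom_apply, Pi.single_eq_same]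
    exact p.isPrime.mul_notMem hrp hcq
  let emb : A →+* Localization.Away a :=
    { toFun := fun z => algebraMap (∀ P, A₀ P) _ (Pi.single (M := A₀) P z)
      map_one' := by
        refine (IsLocalization.Away.algebraMap_isUnit a).mul_left_cancel ?_
        rw [mul_one, ← map_mul, ← Pi.single_mul]
        simp [a]
      map_mul' := fun z w => by rw [← map_mul, ← Pi.single_mul]
      map_zero' := by simp
      map_add' := fun z w => by rw [← map_add, ← Pi.single_add] }
  have hur : IsUnit (emb r) := by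
    refine isUnit_of_mul_isUnit_left (y := emb c) ?_
    rw [← map_mul]
    exact IsLocalization.Away.algebraMap_isUnit a
  let lift₁ : Localization.Away r →+* Localization.Away a := IsLocalization.Away.lift r hur
  have hub : IsUnit (lift₁ b) := by
    have : lift₁ b * lift₁ (algebraMap A _ r) ^ n = emb c := by
      rw [← map_pow, ← map_mul, hc, IsLocalization.Away.lift_eq]
    have hu : IsUnit (emb c) := by
      refine isUnit_of_mul_isUnit_right (x := emb r) ?_
      rw [← map_mul]
      exact IsLocalization.Away.algebraMap_isUnit a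
    rw [← this] at hu
    exact isUnit_of_mul_isUnit_left hu
  have hrange : Set.range (Spec.map (CommRingCat.ofHom lift₁) ≫ jA) ⊆ Set.range hW.fromSpec := by
    rw [hW.range_fromSpec]
    rintro _ ⟨z, rfl⟩
    rw [Scheme.Hom.comp_apply]
    refine hbW ?_
    show lift₁ b ∉ z.asIdeal
    exact fun hz => z.isPrime.ne_top (Ideal.eq_top_of_isUnit_mem _ hz hub)
  refine ⟨a, W, hW, Spec.preimage (IsOpenImmersion.lift hW.fromSpec _ hrange), hay, ?_⟩
  refine Spec.map_injective ?_
  rw [Spec.map_comp, Spec.map_preimage, Spec.map_preimage, ← Category.assoc,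
    IsOpenImmersion.lift_fac, Category.assoc, hjA, ← Spec.map_comp, ← Spec.map_comp]
  refine congrArg Spec.map (CommRingCat.hom_ext (RingHom.ext fun c₀ => ?_))
  show lift₁ (algebraMap A (Localization.Away r) (algebraMap R A c₀)) =
    algebraMap (∀ P, A₀ P) (Localization.Away a) (algebraMap R (∀ P, A₀ P) c₀)
  rw [IsLocalization.Away.lift_eq]
  show algebraMap (∀ P, A₀ P) (Localization.Away a) (Pi.single (M := A₀) P (algebraMap R A c₀)) = _
  refine (IsLocalization.Away.algebraMap_isUnit a).mul_left_cancel ?_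
  rw [← map_mul, ← map_mul]
  congr 1
  funext P'
  by_cases h : P' = P
  · subst h; simp [a]; rfl
  · simp [a, h]

/-- Local sections over an integral surjective cover descend to a finite surjective one. -/
theorem exists_finite_of_integral {R : CommRingCat.{u}} {X : Scheme.{u}} (f : X ⟶ Spec R)
    [LocallyOfFiniteType f] (C : Type u) [CommRing C] [Algebra R C] [Algebra.IsIntegral R C]
    (hsurj : ∀ q : Spec R, ∃ y, Spec.map (CommRingCat.ofHom (algebraMap R C)) y = q)
    (key : ∀ y : Spec (CommRingCat.of C), ∃ (a : C) (W : X.Opens) (hW : IsAffineOpen W)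
      (τ : Γ(X, W) ⟶ CommRingCat.of (Localization.Away a)),
      y ∈ PrimeSpectrum.basicOpen a ∧ Spec.preimage (hW.fromSpec ≫ f) ≫ τ =
        CommRingCat.ofHom (algebraMap R C) ≫
          CommRingCat.ofHom (algebraMap C (Localization.Away a))) :
    ∃ (C : CommRingCat.{u}) (π : Spec C ⟶ Spec R), IsFinite π ∧ Surjective π ∧
      ∀ y : Spec C, ∃ (U : (Spec C).Opens) (s : (U : Scheme.{u}) ⟶ X), y ∈ U ∧ s ≫ f = U.ι ≫ π := by
  classical
  choose a W hW τ hay hτ using key
  obtain ⟨t, ht⟩ := isCompact_univ.elim_finite_subcover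
    (fun y : PrimeSpectrum C => (PrimeSpectrum.basicOpen (a y) : Set (PrimeSpectrum C)))
    (fun y => (PrimeSpectrum.basicOpen (a y)).2) (fun y _ => Set.mem_iUnion.2 ⟨y, hay y⟩)
  have hspan : Ideal.span (a '' (t : Set (PrimeSpectrum C))) = ⊤ := by
    by_contra hne
    obtain ⟨m, hm, hle⟩ := Ideal.exists_le_maximal _ hne
    obtain ⟨y, hy, hmem⟩ := Set.mem_iUnion₂.1 (ht (Set.mem_univ ⟨m, hm.isPrime⟩))
    exact hmem (hle (Ideal.subset_span ⟨y, hy, rfl⟩))
  obtain ⟨c, hc⟩ := (Submodule.mem_span_image_finset_iff_exists_fun' (R := C)).1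
    ((Ideal.eq_top_iff_one _).1 hspan)
  have hfac : ∀ y : Spec (CommRingCat.of C), ∃ F : Set C, F.Finite ∧
      ∀ (D : Subalgebra R C) (ha : a y ∈ D), F ⊆ D →
        ∃ τD : Γ(X, W y) →+* Localization.Away (⟨a y, ha⟩ : D),
          τD.comp (Spec.preimage ((hW y).fromSpec ≫ f)).hom =
            (algebraMap D (Localization.Away (⟨a y, ha⟩ : D))).comp (algebraMap R D) := by
    intro y
    let ψ := (Spec.preimage ((hW y).fromSpec ≫ f)).hom
    letI : Algebra R Γ(X, W y) := ψ.toAlgebra
    haveI : Algebra.FiniteType R Γ(X, W y) := by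
      have : LocallyOfFiniteType (Spec.map (Spec.preimage ((hW y).fromSpec ≫ f))) := by
        rw [Spec.map_preimage]; infer_instance
      exact (HasRingHomProperty.Spec_iff (P := @LocallyOfFiniteType)).1 this
    let τ' : Γ(X, W y) →ₐ[R] Localization.Away (a y) :=
      { (τ y).hom with commutes' := fun x => congr($(hτ y) x) }
    obtain ⟨F, hF, h⟩ := FinRefine4.exists_finset_factor (a y) τ'
    exact ⟨F, hF, fun D ha hFD => (h D ha hFD).elim fun τD _ => ⟨τD.toRingHom, τD.comp_algebraMap⟩⟩
  choose F hF hτD using hfac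
  let gens : Set C := (⋃ y ∈ t, F y) ∪ a '' (t : Set (PrimeSpectrum C)) ∪ c '' (t : Set (PrimeSpectrum C))
  have hgens : gens.Finite := ((t.finite_toSet.biUnion fun y _ => hF y).union
    (t.finite_toSet.image _)).union (t.finite_toSet.image _)
  let D := Algebra.adjoin R gens
  haveI : Module.Finite R D :=
    Module.Finite.iff_fg.2 (fg_adjoin_of_finite hgens fun x _ => Algebra.IsIntegral.isIntegral x)
  let π : Spec (CommRingCat.of D) ⟶ Spec R := Spec.map (CommRingCat.ofHom (algebraMap R D))
  have haD : ∀ y ∈ t, a y ∈ D := fun y hy => Algebra.subset_adjoin (Or.inl (Or.inr ⟨y, hy, rfl⟩))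
  have hcD : ∀ y ∈ t, c y ∈ D := fun y hy => Algebra.subset_adjoin (Or.inr ⟨y, hy, rfl⟩)
  refine ⟨CommRingCat.of D, π, (IsFinite.SpecMap_iff _).2 (RingHom.finite_algebraMap.2 inferInstance),
    ⟨fun q => ?_⟩, fun z => ?_⟩
  · obtain ⟨y, hy⟩ := hsurj q
    exact ⟨PrimeSpectrum.comap D.val.toRingHom y, hy⟩
  · obtain ⟨y, hy, hzy⟩ : ∃ y, ∃ hy : y ∈ t, (⟨a y, haD y hy⟩ : D) ∉ z.asIdeal := by
      by_contra hne
      push Not at hne
      refine z.isPrime.ne_top ((Ideal.eq_top_iff_one _).2 ?_)
      have h1 : (1 : D) = ∑ y : t, (⟨c y.1, hcD y.1 y.2⟩ : D) * ⟨a y.1, haD y.1 y.2⟩ := Subtype.ext (by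
        rw [AddSubmonoidClass.coe_finsetSum]
        exact hc.symm.trans (Finset.sum_coe_sort t fun y => c y * a y).symm)
      rw [h1]
      exact z.asIdeal.sum_mem fun y _ => Ideal.mul_mem_left _ _ (hne y.1 y.2)
    obtain ⟨τD, hτDeq⟩ := hτD y D (haD y hy) fun x hx =>
      Algebra.subset_adjoin (Or.inl (Or.inl (Set.mem_biUnion hy hx)))
    let el : D := ⟨a y, haD y hy⟩
    let j : Spec (CommRingCat.of (Localization.Away el)) ⟶ Spec (CommRingCat.of D) :=
      Spec.map (CommRingCat.ofHom (algebraMap D (Localization.Away el)))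
    haveI : IsOpenImmersion j := IsOpenImmersion.of_isLocalization el
    refine ⟨j.opensRange,
      j.isoOpensRange.inv ≫ Spec.map (CommRingCat.ofHom τD) ≫ (hW y).fromSpec, ?_, ?_⟩
    · show z ∈ Set.range j
      change z ∈ Set.range (PrimeSpectrum.comap (algebraMap D (Localization.Away el)))
      rw [PrimeSpectrum.localization_away_comap_range (Localization.Away el) el]
      exact hzy
    · rw [Category.assoc, Category.assoc, ← Spec.map_preimage ((hW y).fromSpec ≫ f), ← Spec.map_comp,
        ← Scheme.Hom.isoOpensRange_inv_comp j, Category.assoc, ← Spec.map_comp]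
      exact congrArg (fun q => j.isoOpensRange.inv ≫ Spec.map q) (CommRingCat.hom_ext hτDeq)


/-- A quasi-finite cover of a Noetherian affine scheme has local sections after a finite surjective
base change. -/
theorem exists_finite_affine {R : CommRingCat.{u}} [IsNoetherianRing R] {X : Scheme.{u}}
    (f : X ⟶ Spec R) [LocallyOfFinitePresentation f] [LocallyQuasiFinite f]
    (hf : Subtr.UnivSSubtrusive f) :
    ∃ (C : CommRingCat.{u}) (π : Spec C ⟶ Spec R), IsFinite π ∧ Surjective π ∧
      ∀ y : Spec C, ∃ (U : (Spec C).Opens) (s : (U : Scheme.{u}) ⟶ X), y ∈ U ∧ s ≫ f = U.ι ≫ π := by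
  classical
  let σ : Type u := minimalPrimes R
  haveI : Finite σ := (minimalPrimes.finite_of_isNoetherianRing R).to_subtype
  haveI : ∀ P : σ, P.1.IsPrime := fun P => Ideal.IsMinimalPrime.isPrime P.2
  let K : σ → Type u := fun P => AlgebraicClosure (FractionRing (R ⧸ P.1))
  let C : Type u := ∀ P : σ, integralClosure R (K P)
  haveI : Algebra.IsIntegral R C := by
    cases nonempty_fintype σ
    refine ⟨fun x => ?_⟩
    rw [← Finset.univ_sum_single x]
    refine IsIntegral.sum _ fun P _ => ?_
    obtain ⟨q, hq, hq0⟩ := Algebra.IsIntegral.isIntegral (R := R) (x P)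
    refine ⟨Polynomial.X * q, Polynomial.monic_X.mul hq, funext fun P' => ?_⟩
    show Polynomial.eval₂ (algebraMap R C) (Pi.single P (x P)) (Polynomial.X * q) P' = 0
    rw [Polynomial.eval₂_mul, Polynomial.eval₂_X, Pi.mul_apply]
    by_cases h : P' = P
    · subst h
      rw [Pi.single_eq_same, show Polynomial.eval₂ (algebraMap R C) (Pi.single P' (x P')) q P' =
        Pi.evalAlgHom R (fun P => integralClosure R (K P)) P' (Polynomial.aeval (Pi.single P' (x P')) q) from rfl,
        ← Polynomial.aeval_algHom_apply, Pi.evalAlgHom_apply, Pi.single_eq_same,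
        Polynomial.aeval_def, hq0, mul_zero]
    · rw [Pi.single_eq_of_ne h, zero_mul]
  have hsurj : ∀ q : Spec R, ∃ y, Spec.map (CommRingCat.ofHom (algebraMap R C)) y = q := by
    intro q
    haveI := q.isPrime
    obtain ⟨P, hP, hPq⟩ := Ideal.exists_minimalPrimes_le (bot_le : (⊥ : Ideal R) ≤ q.asIdeal)
    let P' : σ := ⟨P, hP⟩
    have hker : RingHom.ker (algebraMap R (integralClosure R (K P'))) ≤ q.asIdeal := by
      intro c hc
      refine hPq (Ideal.Quotient.eq_zero_iff_mem.1 ?_)
      apply IsFractionRing.injective (R ⧸ P'.1) (FractionRing (R ⧸ P'.1))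
      apply (algebraMap (FractionRing (R ⧸ P'.1)) (K P')).injective
      rw [map_zero, map_zero]
      have := congrArg Subtype.val hc
      simpa [K, ← IsScalarTower.algebraMap_apply, ← Ideal.Quotient.algebraMap_eq, P'] using this
    obtain ⟨Q, -, hQp, hQ⟩ := Ideal.exists_ideal_over_prime_of_isIntegral (S := integralClosure R (K P'))
      q.asIdeal ⊥ (by rwa [← RingHom.ker_eq_comap_bot])
    refine ⟨PrimeSpectrum.comap (Pi.evalRingHom (fun P => integralClosure R (K P)) P')
      ⟨Q, hQp⟩, PrimeSpectrum.ext ?_⟩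
    exact hQ
  refine exists_finite_of_integral f C hsurj fun y =>
    exists_key (fun P => integralClosure R (K P)) f (fun P p => ?_) y
  exact exists_local_section (R := CommRingCat.of (integralClosure R (K P))) (K := K P)
    Subtype.val_injective (fun x hx => ⟨⟨x, isIntegral_trans x hx⟩, rfl⟩) (pullback.snd f _)
    (MorphismProperty.IsStableUnderBaseChange.of_isPullback
      (self := by unfold Subtr.UnivSSubtrusive; infer_instance)
      (IsPullback.of_hasPullback f _) hf) p

end Groth.Agent.RefineDesc12
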