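import Groth.Agent.Lib.RefineDesc12.Main
import Groth.Agent.Lib.RefineDesc12.QFin
import Groth.Agent.Lib.Descend.QuasiFinite
import Groth.Agent.Lib.Descend.FgModel
import Groth.Agent.S1376

/-!
# Refining quasi-finite universally S-subtrusive morphisms by open covers followed by finite covers
-/

set_option autoImplicit false
set_option linter.style.haveILetI false
set_option backward.isDefEq.respectTransparency false

universe u

open IsLocalRing CategoryTheory CategoryTheory.Limits AlgebraicGeometry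

namespace Groth.Agent.RefineDesc12

variable {X Y : Scheme.{u}} (f : X ⟶ Y)

/-- Near `y` the morphism `π` lifts to `X`. -/
def HasSec {Y' : Scheme.{u}} (π : Y' ⟶ Y) (y : Y') : Prop :=
  ∃ (U : Y'.Opens) (s : (U : Scheme.{u}) ⟶ X), y ∈ U ∧ s ≫ f = U.ι ≫ π

theorem HasSec.comp {Y' Z : Scheme.{u}} {π : Y' ⟶ Y} (g : Z ⟶ Y') (z : Z)
    (h : HasSec f π (g z)) : HasSec f (g ≫ π) z := by
  obtain ⟨W, r, hW, hr⟩ := h
  exact ⟨g ⁻¹ᵁ W, (g ∣_ W) ≫ r, hW,
    by rw [Category.assoc, hr, ← Category.assoc, morphismRestrict_ι, Category.assoc]⟩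

variable [IsNoetherian Y] [LocallyOfFinitePresentation f] [LocallyQuasiFinite f]

theorem exists_finite_sec_affine (hf : Subtr.UnivSSubtrusive f) (A : Y.Opens) (hA : IsAffineOpen A) :
    ∃ (Y' : Scheme.{u}) (π : Y' ⟶ Y), IsFinite π ∧ Surjective π ∧
      ∀ y' : Y', π y' ∈ A → HasSec f π y' := by
  haveI : IsNoetherianRing Γ(Y, A) := IsLocallyNoetherian.component_noetherian ⟨A, hA⟩
  obtain ⟨C, πa, hfin, hsurj, hsec⟩ := exists_finite_affine (pullback.snd f hA.fromSpec)
    (MorphismProperty.IsStableUnderBaseChange.of_isPullback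
      (self := by unfold Subtr.UnivSSubtrusive; infer_instance)
      (IsPullback.of_hasPullback f hA.fromSpec) hf)
  let v : Spec C ⟶ (A : Scheme.{u}) := πa ≫ hA.isoSpec.inv
  haveI : IsFinite v := inferInstance
  haveI : Surjective v := inferInstance
  obtain ⟨V', π, e, hπs, hπf, hpb⟩ := Groth.Agent.S1376.result A hA.isCompact v
  haveI : IsOpenImmersion e :=
    MorphismProperty.of_isPullback (P := @IsOpenImmersion) hpb.flip inferInstance
  refine ⟨V', π, hπf, hπs, fun y' hy' => ?_⟩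
  obtain ⟨c, hc, -⟩ := Scheme.exists_preimage_of_isPullback hpb y' ⟨π y', hy'⟩ rfl
  obtain ⟨U, s, hcU, hs⟩ := hsec c
  refine ⟨(U.ι ≫ e).opensRange, (U.ι ≫ e).isoOpensRange.inv ≫ s ≫ pullback.fst f hA.fromSpec,
    ⟨⟨c, hcU⟩, by rw [Scheme.Hom.comp_apply]; exact hc⟩, ?_⟩
  rw [← Scheme.Hom.isoOpensRange_inv_comp (U.ι ≫ e)]
  simp only [Category.assoc, pullback.condition, reassoc_of% hs]
  rw [hpb.w]
  simp only [v, Category.assoc, hA.isoSpec_inv_ι]

theorem exists_finite_sec (hf : Subtr.UnivSSubtrusive f) :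
    ∃ (Y' : Scheme.{u}) (π : Y' ⟶ Y), IsFinite π ∧ Surjective π ∧ ∀ y', HasSec f π y' := by
  classical
  have key : ∀ t : Finset Y.affineOpens, ∃ (Y' : Scheme.{u}) (π : Y' ⟶ Y), IsFinite π ∧
      Surjective π ∧ ∀ y', (∃ A ∈ t, π y' ∈ (A.1 : Y.Opens)) → HasSec f π y' := by
    intro t
    induction t using Finset.induction with
    | empty => exact ⟨Y, 𝟙 Y, inferInstance, inferInstance, fun y' h => by simp at h⟩
    | insert A t hAt ih =>
      obtain ⟨Y₁, π₁, h1, h2, h3⟩ := ih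
      obtain ⟨Y₂, π₂, k1, k2, k3⟩ := exists_finite_sec_affine f hf A.1 A.2
      refine ⟨pullback π₁ π₂, pullback.fst π₁ π₂ ≫ π₁, inferInstance, inferInstance, fun y' hy' => ?_⟩
      obtain ⟨B, hB, hyB⟩ := hy'
      rcases Finset.mem_insert.1 hB with rfl | hB
      · rw [pullback.condition] at hyB ⊢
        exact HasSec.comp f _ y' (k3 _ (by rwa [Scheme.Hom.comp_apply] at hyB))
      · exact HasSec.comp f _ y' (h3 _ ⟨B, hB, by rwa [Scheme.Hom.comp_apply] at hyB⟩)
  obtain ⟨t, ht⟩ := isCompact_univ.elim_finite_subcover (fun A : Y.affineOpens => ((A.1 : Y.Opens) : Set Y))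
    (fun A => A.1.isOpen) (fun x _ => by
      obtain ⟨A, hA, hx, -⟩ := exists_isAffineOpen_mem_and_subset (x := x) (U := ⊤) trivial
      exact Set.mem_iUnion.2 ⟨⟨A, hA⟩, hx⟩)
  obtain ⟨Y', π, h1, h2, h3⟩ := key t
  exact ⟨Y', π, h1, h2, fun y' => h3 y' (by simpa using ht (Set.mem_univ (π y')))⟩

theorem exists_qf_refinement_noetherian (hf : Subtr.UnivSSubtrusive f) :
    ∃ (X' Y' : Scheme.{u}) (h : X' ⟶ X) (p : X' ⟶ Y') (q : Y' ⟶ Y), h ≫ f = p ≫ q ∧
      Surjective p ∧ QuasiCompact p ∧ QuasiSeparated p ∧ IsLocIso p ∧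
      IsFinite q ∧ Surjective q ∧ LocallyOfFinitePresentation q := by
  classical
  obtain ⟨Y', q, hq, hqs, hsec⟩ := exists_finite_sec f hf
  haveI : IsLocallyNoetherian Y' := LocallyOfFiniteType.isLocallyNoetherian q
  haveI : CompactSpace Y' := QuasiCompact.compactSpace_of_compactSpace q
  haveI : IsNoetherian Y' := {}
  choose U s hU hs using hsec
  obtain ⟨t, ht⟩ := isCompact_univ.elim_finite_subcover (fun y => (U y : Set Y'))
    (fun y => (U y).isOpen) (fun y _ => Set.mem_iUnion.2 ⟨y, hU y⟩)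
  let τ : Type u := t
  let O : τ → Scheme.{u} := fun k => (U k.1 : Scheme.{u})
  haveI : ∀ k, CompactSpace (O k) := fun k =>
    isCompact_iff_compactSpace.mp (TopologicalSpace.NoetherianSpace.isCompact _)
  let p : ∐ O ⟶ Y' := Sigma.desc fun k : τ => (U k.1).ι
  have hloc : IsLocIso p := fun x => by
    obtain ⟨k, y, rfl⟩ := CurveNF.exists_sigma_eq (X := O) x
    refine ⟨(Sigma.ι O k).opensRange, ⟨y, rfl⟩, ?_⟩
    rw [show (Sigma.ι O k).opensRange.ι ≫ p = (Sigma.ι O k).isoOpensRange.inv ≫ (U k.1).ι by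
      rw [← Scheme.Hom.isoOpensRange_inv_comp (Sigma.ι O k), Category.assoc, Sigma.ι_desc]]
    infer_instance
  haveI : CompactSpace ↥(∐ O) := by
    refine ⟨?_⟩
    have hu : (Set.univ : Set ↥(∐ O)) = ⋃ k, Set.range (Sigma.ι O k) := by
      refine (Set.eq_univ_of_forall fun x => ?_).symm
      obtain ⟨k, y, hy⟩ := CurveNF.exists_sigma_eq (X := O) x
      exact Set.mem_iUnion.2 ⟨k, y, hy⟩
    rw [hu]
    exact isCompact_iUnion fun k => isCompact_range (Sigma.ι O k).continuous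
  haveI : QuasiCompact (p ≫ terminal.from _) := (quasiCompact_iff_compactSpace _).2 inferInstance
  haveI : QuasiCompact p := QuasiCompact.of_comp p (terminal.from _)
  haveI : LocallyOfFiniteType p :=
    prop_of_isLocIso @LocallyOfFiniteType (fun g _ => inferInstance) p hloc
  haveI : IsLocallyNoetherian (∐ O) := LocallyOfFiniteType.isLocallyNoetherian p
  refine ⟨∐ O, Y', Sigma.desc (fun k : τ => s k.1), p, q, ?_, ⟨fun z => ?_⟩, inferInstance,
    inferInstance, hloc, hq, hqs, inferInstance⟩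
  · refine Sigma.hom_ext _ _ fun k => ?_
    rw [Sigma.ι_desc_assoc, hs, Sigma.ι_desc_assoc]
  · obtain ⟨y', hy', hmem⟩ := Set.mem_iUnion₂.1 (ht (Set.mem_univ z))
    refine ⟨Sigma.ι O ⟨y', hy'⟩ ⟨z, hmem⟩, ?_⟩
    rw [← Scheme.Hom.comp_apply, Sigma.ι_desc]
    rfl

omit [AlgebraicGeometry.IsNoetherian Y] in
theorem exists_qf_refinement (hY : IsAffine Y ∨ IsNoetherian Y) [QuasiCompact f] [QuasiSeparated f]
    (hf : Subtr.UnivSSubtrusive f) :
    ∃ (X' Y' : Scheme.{u}) (h : X' ⟶ X) (p : X' ⟶ Y') (q : Y' ⟶ Y), h ≫ f = p ≫ q ∧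
      Surjective p ∧ QuasiCompact p ∧ QuasiSeparated p ∧ IsLocIso p ∧
      IsFinite q ∧ Surjective q ∧ LocallyOfFinitePresentation q := by
  rcases hY with hY | hY
  swap
  · exact exists_qf_refinement_noetherian f hf
  let f' : X ⟶ Spec (CommRingCat.of Γ(Y, ⊤)) := f ≫ Y.isoSpec.hom
  have hf' : (Subtr.UnivSSubtrusive ⊓ @LocallyQuasiFinite) f' :=
    ⟨MorphismProperty.IsStableUnderBaseChange.of_isPullback
      (self := by unfold Subtr.UnivSSubtrusive; infer_instance)
      (f := Y.isoSpec.inv) (f' := 𝟙 X) (IsPullback.of_horiz_isIso ⟨by simp [f']⟩) hf,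
      inferInstanceAs (LocallyQuasiFinite (f ≫ Y.isoSpec.hom))⟩
  obtain ⟨A₀, hA₀, X₀, f₀, qX, ⟨hS, hQF⟩, hfp, hqc, hpb⟩ :=
    Descend.exists_fg_model (Subtr.UnivSSubtrusive ⊓ @LocallyQuasiFinite)
      (Subtr.UnivSSubtrusive ⊓ @LocallyQuasiFinite) f' hf'
      (fun {I} _ _ {S X' D t f₁ c q P p g} _ hc _ _ _ _ hq hP hg => by
        haveI : QuasiCompact (f₁ ≫ terminal.from S) := (quasiCompact_iff_compactSpace _).2 inferInstance
        haveI : QuasiCompact f₁ := QuasiCompact.of_comp f₁ (terminal.from S)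
        haveI : LocallyQuasiFinite g := hg.2
        obtain ⟨j₁, h₁⟩ := SubtrDesc12.exists_stage_of_ultra D t c hc q hq
          (fun W _ _ _ x => SubtrDesc12.GenS (pullback.snd f₁ x))
          (fun ι U V _ _ _ A y σ h => SubtrDesc12.eventually_genS f₁ U V y σ h)
          (fun W _ _ _ x => (SubtrDesc12.genS_pullback_iff (IsPullback.of_hasPullback f₁ (x ≫ q))
            ((IsPullback.of_hasPullback g x).paste_horiz hP)).2
            (SubtrDesc12.genS_of_univSSubtrusive hg.1 (IsPullback.of_hasPullback g x)))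
        have hs₁ : Subtr.UnivSSubtrusive (pullback.snd f₁ (t.app j₁)) :=
          SubtrDesc12.univSSubtrusive_of_genS fun W _ _ _ x =>
            (SubtrDesc12.genS_pullback_iff ((IsPullback.of_hasPullback _ x).paste_horiz
              (IsPullback.of_hasPullback f₁ (t.app j₁))) (IsPullback.of_hasPullback f₁ (x ≫ t.app j₁))).2
              (h₁ W x)
        obtain ⟨j₂, h₂⟩ := Descend.exists_locallyQuasiFinite hc hq hP
        refine ⟨IsCofiltered.min j₁ j₂, ?_, ?_⟩
        · exact MorphismProperty.IsStableUnderBaseChange.of_isPullback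
            (self := by unfold Subtr.UnivSSubtrusive; infer_instance)
            (Descend.pbMap_isPullback D t f₁ (IsCofiltered.minToLeft j₁ j₂)) hs₁
        · exact MorphismProperty.of_isPullback (P := @LocallyQuasiFinite)
            (Descend.pbMap_isPullback D t f₁ (IsCofiltered.minToRight j₁ j₂)) h₂)
  haveI : Algebra.FiniteType ℤ A₀ := (Subalgebra.fg_iff_finiteType A₀).1 hA₀
  haveI : IsNoetherianRing A₀ := Algebra.FiniteType.isNoetherianRing ℤ A₀
  haveI : IsLocallyNoetherian X₀ := LocallyOfFiniteType.isLocallyNoetherian f₀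
  haveI : LocallyQuasiFinite f₀ := hQF
  obtain ⟨X₁, Y₁, h₁, p₁, q₁, hcomm, hp₁, hp₁qc, hp₁qs, hloc, hq₁, hq₁s, hq₁fp⟩ :=
    exists_qf_refinement_noetherian f₀ hS
  let m : Y ⟶ Spec (CommRingCat.of A₀) :=
    Y.isoSpec.hom ≫ Spec.map (CommRingCat.ofHom (algebraMap A₀ Γ(Y, ⊤)))
  have hpb' : IsPullback qX f f₀ m := by
    have h1 : IsPullback (𝟙 X) f f' Y.isoSpec.hom := IsPullback.of_horiz_isIso ⟨by simp [f']⟩
    have h2 := h1.paste_horiz hpb
    rwa [Category.id_comp] at h2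
  let q := pullback.snd q₁ m
  let p := pullback.snd p₁ (pullback.fst q₁ m)
  refine ⟨_, _, hpb'.lift (pullback.fst p₁ (pullback.fst q₁ m) ≫ h₁) (p ≫ q) ?_, p, q,
    hpb'.lift_snd _ _ _, inferInstance, inferInstance, inferInstance,
    isLocIso_pullback_fst (IsPullback.of_hasPullback _ _) hloc, inferInstance, inferInstance,
    inferInstance⟩
  rw [Category.assoc, hcomm, pullback.condition_assoc, Category.assoc, pullback.condition]

end Groth.Agent.RefineDesc12
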